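import Cfsg.Agent.Lib.Helper11.Fi22o.Model
import Cfsg.Agent.Lib.Helper11.SimpleModel

set_option autoImplicit false
set_option maxRecDepth 100000

namespace Cfsg.Agent.Lib.Helper11.Fi22o

open Cfsg.Spor Cfsg.Spor.Fi22 Cfsg.Agent.Lib.Helper11.Fi22a

set_option maxHeartbeats 0

def primL : List (ℕ × ℕ × WExp × ℕ) := [(693, 4, (.mul (.l 8) (.mul (.l 5) (.mul (.l 4) (.mul (.l 2) (.mul (.l 3) (.mul (.l 1) (.l 2))))))), 4), (2816, 5, (.l 2), 5)]
theorem primOK : primChk (ntOf ntl) INVm (hExps.map (fun e => e.letters INVm)) 3510 1 primL = true := by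
  decide +kernel
def tE : WExp := .l 1
theorem normOK : normChk (ntOf ntl) 12 (hExps.map (fun e => e.letters INVm)) (tE.letters INVm)
    ((WExp.inv tE).letters INVm) = true := by decide +kernel


end Cfsg.Agent.Lib.Helper11.Fi22o
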